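import Groth.Agent.S3212
import Mathlib.RingTheory.Artinian.Module
import Mathlib.FieldTheory.Finite.Basic

/-!
# The semisimple part of a q-linear endomorphism
-/

set_option autoImplicit false
universe u v

namespace K571.QLin

variable {k : Type u} [Field k] {V : Type v} [AddCommGroup V] [Module k V] (q : ℕ) (φ : V →+ V)

/-- The chain of spans. -/
def S (k : Type u) [Field k] {V : Type v} [AddCommGroup V] [Module k V] (φ : V →+ V) (n : ℕ) :
    Submodule k V := Submodule.span k (Set.range (φ^[n + 1]))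

theorem S_anti : Antitone (S k φ) := by
  refine antitone_nat_of_succ_le fun n => Submodule.span_mono ?_
  rintro _ ⟨x, rfl⟩
  exact ⟨φ x, by rw [← Function.iterate_succ_apply]⟩

variable (hφ : ∀ (c : k) (v : V), φ (c • v) = c ^ q • φ v)
include hφ

theorem map_mem_S (n : ℕ) (x : V) (hx : x ∈ S k φ n) : φ x ∈ S k φ (n + 1) := by
  induction hx using Submodule.span_induction with
  | mem x hx =>
    obtain ⟨y, rfl⟩ := hx
    refine Submodule.subset_span ⟨y, ?_⟩
    rw [← Function.iterate_succ_apply' φ]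
  | zero => rw [map_zero]; exact Submodule.zero_mem _
  | add x y _ _ hx hy => rw [map_add]; exact Submodule.add_mem _ hx hy
  | smul c x _ hx => rw [hφ]; exact Submodule.smul_mem _ _ hx

theorem iterate_smul (n : ℕ) (c : k) (v : V) : φ^[n] (c • v) = c ^ (q ^ n) • φ^[n] v := by
  induction n with
  | zero => simp
  | succ n ih =>
    rw [Function.iterate_succ_apply', ih, hφ, Function.iterate_succ_apply', ← pow_mul, pow_succ]

omit hφ in
theorem iterate_sum {ι : Type*} (n : ℕ) (s : Finset ι) (f : ι → V) :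
    φ^[n] (∑ i ∈ s, f i) = ∑ i ∈ s, φ^[n] (f i) := by
  induction n with
  | zero => simp
  | succ n ih =>
    rw [Function.iterate_succ_apply', ih, map_sum]
    exact Finset.sum_congr rfl fun i _ => (Function.iterate_succ_apply' φ n (f i)).symm

variable [FiniteDimensional k V]

theorem exists_stable : ∃ N : ℕ, (⨅ n, S k φ n) = S k φ N ∧ S k φ (N + 1) = S k φ N := by
  obtain ⟨N, hN⟩ := IsArtinian.monotone_stabilizes (R := k) (M := V)
    ⟨fun n => OrderDual.toDual (S k φ n), fun m n h => S_anti φ h⟩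
  have h1 : ∀ m, N ≤ m → S k φ N = S k φ m := fun m hm => OrderDual.toDual.injective (hN m hm)
  refine ⟨N, le_antisymm (iInf_le _ N) (le_iInf fun m => ?_), (h1 (N + 1) (Nat.le_succ N)).symm⟩
  rcases le_total N m with h | h
  · rw [h1 m h]
  · exact S_anti φ h

/-- The semisimple part is spanned by the image of itself. -/
theorem span_image_ss :
    (∀ x ∈ (⨅ n, S k φ n), φ x ∈ (⨅ n, S k φ n)) ∧
      (⨅ n, S k φ n) ≤ Submodule.span k (φ '' ((⨅ n, S k φ n : Submodule k V) : Set V)) := by
  obtain ⟨N, h1, h2⟩ := exists_stable q φ hφ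
  rw [h1]
  refine ⟨fun x hx => h2 ▸ map_mem_S q φ hφ N x hx, ?_⟩
  conv_lhs => rw [← h2]
  refine Submodule.span_mono ?_
  rintro _ ⟨y, rfl⟩
  refine ⟨φ^[N + 1] y, Submodule.subset_span ⟨y, rfl⟩, ?_⟩
  rw [← Function.iterate_succ_apply' φ]

/-- The restriction of `φ` to the semisimple part. -/
def ssMap : (⨅ n, S k φ n : Submodule k V) →+ (⨅ n, S k φ n : Submodule k V) where
  toFun x := ⟨φ x, (span_image_ss q φ hφ).1 x x.2⟩
  map_zero' := Subtype.ext (map_zero φ)
  map_add' x y := Subtype.ext (map_add φ _ _)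

theorem span_range_ssMap : Submodule.span k (Set.range (ssMap q φ hφ)) = ⊤ := by
  rw [eq_top_iff]
  rintro ⟨x, hx⟩ -
  have h := (span_image_ss q φ hφ).2 hx
  suffices ∀ y ∈ Submodule.span k (φ '' ((⨅ n, S k φ n : Submodule k V) : Set V)),
      ∀ (hy : y ∈ (⨅ n, S k φ n : Submodule k V)),
      (⟨y, hy⟩ : (⨅ n, S k φ n : Submodule k V)) ∈ Submodule.span k (Set.range (ssMap q φ hφ)) from
    this x h hx
  intro y hy
  induction hy using Submodule.span_induction with
  | mem y hy =>
    intro h'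
    obtain ⟨z, hz, rfl⟩ := hy
    exact Submodule.subset_span ⟨⟨z, hz⟩, rfl⟩
  | zero => intro _; exact Submodule.zero_mem _
  | add y z hy hz h1 h2 =>
    intro h'
    have hy' : y ∈ (⨅ n, S k φ n : Submodule k V) := by
      refine (Submodule.span_le.mpr ?_) hy
      rintro _ ⟨w, hw, rfl⟩
      exact (span_image_ss q φ hφ).1 w hw
    have hz' : z ∈ (⨅ n, S k φ n : Submodule k V) := by
      refine (Submodule.span_le.mpr ?_) hz
      rintro _ ⟨w, hw, rfl⟩
      exact (span_image_ss q φ hφ).1 w hw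
    exact Submodule.add_mem _ (h1 hy') (h2 hz')
  | smul c y hy h1 =>
    intro h'
    have hy' : y ∈ (⨅ n, S k φ n : Submodule k V) := by
      refine (Submodule.span_le.mpr ?_) hy
      rintro _ ⟨w, hw, rfl⟩
      exact (span_image_ss q φ hφ).1 w hw
    exact Submodule.smul_mem _ c (h1 hy')

omit hφ [FiniteDimensional k V] in
theorem fixed_mem_ss (v : V) (hv : φ v = v) : v ∈ (⨅ n, S k φ n : Submodule k V) := by
  rw [Submodule.mem_iInf]
  intro n
  refine Submodule.subset_span ⟨v, ?_⟩
  exact Function.iterate_fixed hv (n + 1)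

end K571.QLin
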