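import Groth.Agent.Pi1B.GaFin104
import Mathlib.FieldTheory.Finite.Basic
import Mathlib.LinearAlgebra.Dimension.Finite

/-!
# The order of `H^i(X_et, ℤ/p)` for `X` proper over a separably closed field of characteristic `p`
-/

set_option autoImplicit false
universe u v w

open CategoryTheory CategoryTheory.Limits AlgebraicGeometry Opposite CategoryTheory.Abelian

namespace K571.CardH

section linear

open Polynomial in
theorem card_fixed {k : Type u} [Field k] (p : ℕ) [Fact p.Prime] :
    Set.Finite {c : k | c ^ p = c} ∧ Nat.card {c : k | c ^ p = c} ≤ p := by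
  classical
  have h1 : (X ^ p - X : k[X]) ≠ 0 :=
    FiniteField.X_pow_card_sub_X_ne_zero k (Fact.out : p.Prime).one_lt
  have h2 : {c : k | c ^ p = c} = ((X ^ p - X : k[X]).roots.toFinset : Set k) := by
    ext c
    simp [h1, sub_eq_zero]
  rw [h2]
  refine ⟨Finset.finite_toSet _, ?_⟩
  have h3 : Nat.card (((X ^ p - X : k[X]).roots.toFinset : Set k)) = (X ^ p - X : k[X]).roots.toFinset.card :=
    Nat.card_eq_card_toFinset _ |>.trans (by rw [Finset.toFinset_coe])
  rw [h3]
  calc _ ≤ Multiset.card (X ^ p - X : k[X]).roots := Multiset.toFinset_card_le _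
    _ ≤ (X ^ p - X : k[X]).natDegree := card_roots' _
    _ = p := FiniteField.X_pow_card_sub_X_natDegree_eq k (Fact.out : p.Prime).one_lt

/-- Fixed vectors of a `p`-linear endomorphism. -/
theorem card_fixed_le {k : Type u} {V : Type v} [Field k] (p : ℕ) [Fact p.Prime]
    [AddCommGroup V] [Module k V] [FiniteDimensional k V] (F : V →+ V)
    (hF : ∀ (c : k) (v : V), F (c • v) = c ^ p • F v) :
    Set.Finite {v : V | F v = v} ∧ Nat.card {v : V | F v = v} ≤ p ^ Module.finrank k V := by
  classical
  obtain ⟨b, hbS, hspan, hli⟩ := exists_linearIndependent k {v : V | F v = v}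
  have hbfin : Finite b := hli.finite
  have : Fintype b := Fintype.ofFinite b
  have hcard : Fintype.card b ≤ Module.finrank k V := hli.fintype_card_le_finrank
  obtain ⟨hfin, hle⟩ := card_fixed (k := k) p
  have hfin' : Finite {c : k | c ^ p = c} := hfin
  -- coordinates of a fixed vector
  have hcoord : ∀ v : {v : V | F v = v}, ∃ c : b → {c : k | c ^ p = c}, ∑ i, (c i : k) • (i : V) = v := by
    intro v
    have hv : (v : V) ∈ Submodule.span k b := by
      rw [hspan]; exact Submodule.subset_span v.2
    rw [← Subtype.range_coe (s := b), Submodule.mem_span_range_iff_exists_fun] at hv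
    obtain ⟨c, hc⟩ := hv
    have hFv : F (v : V) = v := v.2
    have h1 : ∑ i, (c i ^ p - c i) • (i : V) = 0 := by
      simp only [sub_smul, Finset.sum_sub_distrib]
      rw [hc, sub_eq_zero]
      have h2 : F (∑ i, c i • (i : V)) = ∑ i, (c i ^ p) • (i : V) := by
        rw [map_sum]
        apply Finset.sum_congr rfl
        intro i _
        rw [hF]
        congr 1
        exact hbS i.2
      rw [← h2, hc, hFv]
    have h3 := (Fintype.linearIndependent_iff.mp hli) _ h1
    refine ⟨fun i => ⟨c i, sub_eq_zero.mp (h3 i)⟩, hc⟩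
  choose c hc using hcoord
  have hinj : Function.Injective c := by
    intro v w hvw
    apply Subtype.ext
    rw [← hc v, ← hc w, hvw]
  have hfinV : Finite {v : V | F v = v} := Finite.of_injective c hinj
  refine ⟨hfinV, ?_⟩
  calc Nat.card {v : V | F v = v} ≤ Nat.card (b → {c : k | c ^ p = c}) := Nat.card_le_card_of_injective c hinj
    _ = (Nat.card {c : k | c ^ p = c}) ^ Fintype.card b := by
        rw [Nat.card_fun, Nat.card_eq_fintype_card (α := b)]
    _ ≤ p ^ Fintype.card b := Nat.pow_le_pow_left hle _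
    _ ≤ p ^ Module.finrank k V := Nat.pow_le_pow_right (Fact.out : p.Prime).pos hcard

end linear

open Groth.Agent.Cohder Groth.Agent.Etbase Groth.Agent.Etcore TopologicalSpace

section ext

open ExtSemi

variable {C : Type u} [Category.{v} C] [Abelian C] [HasExt.{w} C]
variable {k : Type*} [Field k] (p : ℕ) [Fact p.Prime] [CharP k p]
variable {K G : C} (ρ : Action k G) (ι : K ⟶ G) (φ : G ⟶ G) (hw : ι ≫ (φ - 𝟙 G) = 0)
  (hS : (ShortComplex.mk ι (φ - 𝟙 G) hw).ShortExact)
  (hφ : ∀ c, ρ.act c ≫ φ = φ ≫ ρ.act (c ^ p)) (A : C)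

include hφ hS in
theorem post_injective [IsSepClosed k]
    (hfd : ∀ n, letI := ρ.module A n; Module.Finite k (Ext A G n)) (n : ℕ) :
    Function.Injective (post A ι n) := by
  cases n with
  | zero => exact post_injective_zero ι (φ - 𝟙 G) hw hS A
  | succ n => exact post_injective_succ ι (φ - 𝟙 G) hw hS A n (surjective_post p ρ φ hφ A n (hfd n))

include hφ hS in
theorem card_ext_le [IsSepClosed k]
    (hfd : ∀ n, letI := ρ.module A n; Module.Finite k (Ext A G n)) (n : ℕ) :
    Finite (Ext A K n) ∧
    Nat.card (Ext A K n) ≤ p ^ (letI := ρ.module A n; Module.finrank k (Ext A G n)) := by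
  let _ := ρ.module A n
  have : Module.Finite k (Ext A G n) := hfd n
  have h := card_fixed_le (k := k) p (post A φ n) (fun c v => post_smul ρ φ p hφ A n c v)
  have hfin : Finite {v : Ext A G n | post A φ n v = v} := h.1
  have hf : ∀ x : Ext A K n, post A φ n (post A ι n x) = post A ι n x := by
    intro x
    have h1 := post_post_zero ι (φ - 𝟙 G) hw A n x
    rwa [post_sub_id, sub_eq_zero] at h1
  have hinj : Function.Injective (fun x : Ext A K n =>
      (⟨post A ι n x, hf x⟩ : {v : Ext A G n | post A φ n v = v})) := by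
    intro x y hxy
    exact post_injective p ρ ι φ hw hS hφ A hfd n (congrArg Subtype.val hxy)
  exact ⟨Finite.of_injective _ hinj, (Nat.card_le_card_of_injective _ hinj).trans h.2⟩

end ext

section const

open GaScalar ASFinite

theorem card_ext_const {X : Scheme.{u}} (p : ℕ) [Fact p.Prime] {k : Type u} [Field k] [CharP k p]
    (f : X ⟶ Spec (CommRingCat.of k)) [IsSepClosed k] (A : EtCoh.Ab X)
    (hfd : ∀ n, letI := (gaAction f).module A n; Module.Finite k (Ext.{u + 1} A (EtCoh.Ga X) n))
    (n : ℕ) : Finite (Ext.{u + 1} A (EtCoh.const X (ZMod p)) n) ∧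
      Nat.card (Ext.{u + 1} A (EtCoh.const X (ZMod p)) n) ≤
        p ^ (letI := (gaAction f).module A n; Module.finrank k (Ext.{u + 1} A (EtCoh.Ga X) n)) := by
  obtain ⟨w, hS⟩ := shortExact' p (cast_eq_zero p f)
  exact card_ext_le p (gaAction f) _ _ w hS
    (gaAction_comp_pow f _ p (fn_frob p (cast_eq_zero p f))) A hfd n

end const

variable {X : Scheme.{u}}

section Short

open scoped Groth.Agent.Etcore.EtInst Groth.Agent.Etbase.ZarEt530
open Groth.Agent.Pi1B.GaFin104

/-- Dimension bound. -/
theorem finrank_short {k : Type u} [Field k] (f : X ⟶ Spec (CommRingCat.of k)) (n : ℕ)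
    {M : Type u} [AddCommGroup M] [Module k M] [Module.Finite k M]
    (e : M →+ ZarEt530.ZH ((ZarUlift.UL (Opens.grothendieckTopology X)).obj (GaZar.OX X)) n)
    (he : Function.Surjective e)
    (hs : ∀ (c : k) (x : M), e (c • x) = (e x).comp
      (Ext.mk₀ ((ZarUlift.UL (Opens.grothendieckTopology X)).map
        (Coh.smulAb (Coh.structureModule X) (GaScalar.str f c)))) (add_zero n)) :
    letI := (GaScalar.gaAction f).module (EtCoh.const X ℤ) n
    Module.finrank k (EtInst.HH X (EtCoh.Ga X) n) ≤ Module.finrank k M := by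
  let _ := (GaScalar.gaAction f).module (EtCoh.const X ℤ) n
  let L : M →ₗ[k] EtInst.HH X (EtCoh.Ga X) n :=
    { (c2 X n).comp e with
      map_smul' := fun c x => by
        change c2 X n (e (c • x)) = _
        rw [hs, c2_smul]
        rfl }
  have hL : Function.Surjective L := (c2_surjective n).comp he
  rw [← finrank_top, ← LinearMap.range_eq_top.mpr hL]
  exact LinearMap.finrank_range_le L

end Short

open Groth.Agent.Pi1B.GaFin104

theorem finrank_ga {k : Type u} [Field k] (f : X ⟶ Spec (CommRingCat.of k)) [IsProper f] (n : ℕ)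
    (hfin : letI : X.Over (Spec (CommRingCat.of k)) := ⟨f⟩
      Module.Finite k (Coh.HH X (Coh.structureModule X) n)) :
    letI := (GaScalar.gaAction f).module (EtCoh.const X ℤ) n
    letI : X.Over (Spec (CommRingCat.of k)) := ⟨f⟩
    Module.finrank k (EtInst.HH X (EtCoh.Ga X) n) ≤
      Module.finrank k (Coh.HH X (Coh.structureModule X) n) := by
  let _ : X.Over (Spec (CommRingCat.of k)) := ⟨f⟩
  have := hfin
  exact finrank_short f n (c1 X n) (c1_surjective n) (fun c x => c1_smul n _ x)

theorem main {k : Type u} [Field k] [IsSepClosed k] (p : ℕ) [Fact p.Prime] [CharP k p]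
    (f : X ⟶ Spec (CommRingCat.of k)) [IsProper f]
    (hfin : ∀ n : ℕ, letI : X.Over (Spec (CommRingCat.of k)) := ⟨f⟩
      Module.Finite k (Coh.HH X (Coh.structureModule X) n)) (q : ℕ) :
    letI : X.Over (Spec (CommRingCat.of k)) := ⟨f⟩
    Finite (EtCoh.H X (EtCoh.const X (ZMod p)) q) ∧
      Nat.card (EtCoh.H X (EtCoh.const X (ZMod p)) q) ≤
        p ^ Module.finrank k (Coh.HH X (Coh.structureModule X) q) := by
  let _ : X.Over (Spec (CommRingCat.of k)) := ⟨f⟩
  have h := card_ext_const p f (EtCoh.const X ℤ) (fun n => finite_ga f n (hfin n)) q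
  exact ⟨h.1, h.2.trans
    (Nat.pow_le_pow_right (Fact.out : p.Prime).pos (finrank_ga f q (hfin q)))⟩

end K571.CardH
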