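import Groth.Agent.SGA7II.K571.AzDesc
import Groth.Agent.QuadGrp.K916.Basic
import Mathlib.LinearAlgebra.CliffordAlgebra.Even
import Mathlib.LinearAlgebra.CliffordAlgebra.Grading

/-!
# The even Clifford algebra of a form which is faithfully flat locally split
-/

set_option autoImplicit false

universe u v

open TensorProduct CliffordAlgebra

namespace K571.EvenTr

section

variable {R M M' : Type*} [CommRing R] [AddCommGroup M] [Module R M] [AddCommGroup M'] [Module R M']
  {Q : QuadraticForm R M} {Q' : QuadraticForm R M'}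

/-- The map of even Clifford algebras induced by an isometry. -/
def evenMap (f : M →ₗ[R] M') (hf : ∀ m, Q' (f m) = Q m) : even Q →ₐ[R] even Q' :=
  even.lift Q
    { bilin := (even.ι Q').bilin.compl₁₂ f f
      contract := fun m => by
        rw [LinearMap.compl₁₂_apply, EvenHom.contract, hf]
      contract_mid := fun m₁ m₂ m₃ => by
        rw [LinearMap.compl₁₂_apply, LinearMap.compl₁₂_apply, LinearMap.compl₁₂_apply, EvenHom.contract_mid, hf] }

theorem evenMap_ι (f : M →ₗ[R] M') (hf : ∀ m, Q' (f m) = Q m) (m₁ m₂ : M) :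
    evenMap f hf ((even.ι Q).bilin m₁ m₂) = (even.ι Q').bilin (f m₁) (f m₂) :=
  even.lift_ι _ _ m₁ m₂

theorem evenMap_comp (f : M →ₗ[R] M') (hf : ∀ m, Q' (f m) = Q m) (g : M' →ₗ[R] M) (hg : ∀ m, Q (g m) = Q' m)
    (h : ∀ m, g (f m) = m) : (evenMap g hg).comp (evenMap f hf) = AlgHom.id R _ := by
  ext m₁ m₂ : 4
  change evenMap g hg (evenMap f hf ((even.ι Q).bilin m₁ m₂)) = (even.ι Q).bilin m₁ m₂
  rw [evenMap_ι, evenMap_ι, h, h]

/-- Isometric forms have isomorphic even Clifford algebras. -/
def evenEquiv (f : M ≃ₗ[R] M') (hf : ∀ m, Q' (f m) = Q m) : even Q ≃ₐ[R] even Q' :=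
  have hg : ∀ m, Q (f.symm m) = Q' m := fun m => by rw [← hf, f.apply_symm_apply]
  AlgEquiv.ofAlgHom (evenMap f.toLinearMap hf) (evenMap f.symm.toLinearMap hg)
    (evenMap_comp _ _ _ _ f.apply_symm_apply) (evenMap_comp _ _ _ _ f.symm_apply_apply)

end

section

variable {R : Type u} {M : Type v} [CommRing R] [AddCommGroup M] [Module R M] (Q : QuadraticForm R M)
  [Module.Free R M]

theorem projective_even : Module.Projective R (even Q) := by
  have := K916.Basic.module_free (M := M) Q
  exact Module.Projective.of_split (even Q).val.toLinearMap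
    (Submodule.linearProjOfIsCompl _ _ (evenOdd_isCompl Q))
    (LinearMap.ext fun x => Submodule.linearProjOfIsCompl_apply_left (evenOdd_isCompl Q) x)

theorem finite_even [Module.Finite R M] : Module.Finite R (even Q) := by
  have := K916.Basic.module_finite (M := M) Q
  exact Module.Finite.of_surjective (Submodule.linearProjOfIsCompl _ _ (evenOdd_isCompl Q))
    (Submodule.linearProjOfIsCompl_surjective (evenOdd_isCompl Q))

end

/-- The final statement, from a faithfully flat splitting. -/
theorem main (A : Type u) [CommRing A] (V : Type v) [AddCommGroup V] [Module A V] [Module.Free A V]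
    [Module.Finite A V] (Q : QuadraticForm A V) (A' : Type u) [CommRing A'] [Algebra A A'] [Module.FaithfullyFlat A A']
    (n : ℕ) (hn : 1 ≤ n)
    (e : (A' ⊗[A] ↥(CliffordAlgebra.even Q)) ≃ₐ[A'] (Matrix (Fin n) (Fin n) A' × Matrix (Fin n) (Fin n) A')) :
    letI : Algebra ↥(Subalgebra.center A ↥(CliffordAlgebra.even Q)) ↥(CliffordAlgebra.even Q) :=
      (Subalgebra.center A ↥(CliffordAlgebra.even Q)).val.toRingHom.toAlgebra'
        (fun c x => (Subalgebra.mem_center_iff.mp c.2 x).symm)
    Algebra.Etale A ↥(Subalgebra.center A ↥(CliffordAlgebra.even Q)) ∧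
      Module.Finite A ↥(Subalgebra.center A ↥(CliffordAlgebra.even Q)) ∧
      Module.Projective A ↥(Subalgebra.center A ↥(CliffordAlgebra.even Q)) ∧
      (∀ p : PrimeSpectrum A, Module.rankAtStalk ↥(Subalgebra.center A ↥(CliffordAlgebra.even Q)) p = 2) ∧
      IsAzumaya ↥(Subalgebra.center A ↥(CliffordAlgebra.even Q)) ↥(CliffordAlgebra.even Q) := by
  have h1 := finite_even Q
  have h2 := projective_even Q
  have h3 : Module.FinitePresentation A (even Q) := Module.finitePresentation_of_projective _ _
  have : Nonempty (Fin n) := ⟨⟨0, hn⟩⟩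
  exact ⟨AzDesc.etale_center e, AzDesc.finite_center e, AzDesc.projective_center e, AzDesc.rankAtStalk_center e,
    AzDesc.isAzumaya_center hn e⟩

end K571.EvenTr
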