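import Mathlib.RingTheory.IntegralClosure.IsIntegral.AlmostIntegral
import Mathlib.RingTheory.PowerSeries.Basic
import Mathlib.RingTheory.PowerSeries.Order
import Mathlib.RingTheory.Etale.Kaehler
import Mathlib.RingTheory.Localization.FractionRing
import Mathlib.RingTheory.Derivation.Basic
import Mathlib.Algebra.BigOperators.NatAntidiagonal
import Mathlib.Algebra.Algebra.Rat
import Mathlib.Algebra.Module.LinearMap.Rat

/-!
# Seidenberg: derivations preserve the integral closure in characteristic zero

`R` a Noetherian `ℚ`-algebra, `K` its total ring of fractions, `D` a derivation of `K` preserving `R`: then `D`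
preserves the integral closure of `R` in `K` (`isIntegral_of_derivation`). The proof uses the exponential
`exp (t D) : K → K⟦t⟧`.
-/

set_option autoImplicit false

open PowerSeries nonZeroDivisors

namespace K571.Seiden

variable {K : Type*} [CommRing K] [Algebra ℚ K]

/-- Leibniz' rule for the iterates of a derivation. -/
theorem iterate_mul (D : Derivation ℚ K K) (n : ℕ) (x y : K) :
    (D^[n]) (x * y) = ∑ p ∈ Finset.antidiagonal n, n.choose p.1 • ((D^[p.1]) x * (D^[p.2]) y) := by
  induction n with
  | zero => simp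
  | succ n ih =>
    rw [Function.iterate_succ_apply', ih, map_sum,
      Finset.sum_antidiagonal_choose_succ_nsmul (fun i j => (D^[i]) x * (D^[j]) y) n, ← Finset.sum_add_distrib]
    refine Finset.sum_congr rfl fun p hp => ?_
    rw [map_nsmul, D.leibniz, smul_eq_mul, smul_eq_mul, Function.iterate_succ_apply' (f := D) p.1,
      Function.iterate_succ_apply' (f := D) p.2, Nat.choose_symm_of_eq_add (Finset.mem_antidiagonal.1 hp).symm,
      smul_add]
    ring

/-- The exponential `exp (t D)`. -/
noncomputable def E (D : Derivation ℚ K K) : K →+* K⟦X⟧ where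
  toFun x := PowerSeries.mk fun n => ((n.factorial : ℚ)⁻¹) • (D^[n]) x
  map_one' := by
    ext n
    rw [coeff_mk]
    cases n with
    | zero => simp
    | succ n =>
      rw [Function.iterate_succ_apply, D.map_one_eq_zero, iterate_map_zero, smul_zero, coeff_one]
      simp
  map_mul' x y := by
    ext n
    rw [coeff_mul, coeff_mk, iterate_mul, Finset.smul_sum]
    refine Finset.sum_congr rfl fun p hp => ?_
    rw [coeff_mk, coeff_mk, smul_mul_smul_comm, ← Nat.cast_smul_eq_nsmul ℚ, smul_smul]
    congr 1
    obtain ⟨i, j⟩ := p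
    rw [Finset.mem_antidiagonal] at hp
    subst hp
    change (((i + j).factorial : ℚ))⁻¹ * (((i + j).choose i : ℕ) : ℚ) =
      ((i.factorial : ℚ))⁻¹ * ((j.factorial : ℚ))⁻¹
    rw [Nat.choose_symm_add, Nat.add_choose, Nat.cast_div (Nat.factorial_mul_factorial_dvd_factorial_add i j)
      (by positivity)]
    push_cast
    have := Nat.factorial_ne_zero (i + j)
    have := Nat.factorial_ne_zero i
    have := Nat.factorial_ne_zero j
    field_simp
  map_zero' := by
    ext n
    simp
  map_add' x y := by
    ext n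
    rw [map_add, coeff_mk, coeff_mk, coeff_mk, iterate_map_add, smul_add]

theorem coeff_E (D : Derivation ℚ K K) (x : K) (n : ℕ) :
    coeff n (E D x) = ((n.factorial : ℚ)⁻¹) • (D^[n]) x := by
  change coeff n (PowerSeries.mk fun n => ((n.factorial : ℚ)⁻¹) • (D^[n]) x) = _
  rw [coeff_mk]

/-- The power series with coefficients in a subalgebra. -/
noncomputable def S (R : Subalgebra ℚ K) : Subring K⟦X⟧ where
  carrier := {f | ∀ n, coeff n f ∈ R}
  mul_mem' {f g} hf hg n := by
    rw [coeff_mul]
    exact sum_mem fun p _ => mul_mem (hf _) (hg _)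
  one_mem' n := by
    rw [coeff_one]
    split_ifs
    · exact one_mem R
    · exact zero_mem R
  add_mem' {f g} hf hg n := by
    rw [map_add]
    exact add_mem (hf n) (hg n)
  zero_mem' n := by
    rw [map_zero]
    exact zero_mem R
  neg_mem' {f} hf n := by
    rw [map_neg]
    exact neg_mem (hf n)

theorem mem_S {R : Subalgebra ℚ K} {f : K⟦X⟧} : f ∈ S R ↔ ∀ n, coeff n f ∈ R := Iff.rfl

theorem E_mem (D : Derivation ℚ K K) (R : Subalgebra ℚ K) (hR : ∀ x ∈ R, D x ∈ R) {x : K} (hx : x ∈ R) :
    E D x ∈ S R := by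
  intro n
  rw [coeff_E]
  refine R.smul_mem ?_ _
  induction n with
  | zero => exact hx
  | succ n ih =>
    rw [Function.iterate_succ_apply']
    exact hR _ ih

theorem C_mem (R : Subalgebra ℚ K) {x : K} (hx : x ∈ R) : (C x : K⟦X⟧) ∈ S R := by
  intro n
  rw [coeff_C]
  split_ifs
  · exact hx
  · exact zero_mem R

/-- The key computation. -/
theorem main (D : Derivation ℚ K K) (R : Subalgebra ℚ K) (hR : ∀ x ∈ R, D x ∈ R) (x c : K)
    (h : ∀ n : ℕ, c * x ^ n ∈ R) (n : ℕ) : c * c * (D x) ^ n ∈ R := by
  have hz : ∃ z : K⟦X⟧, E D x - C x = X * z ∧ constantCoeff z = D x := by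
    have h1 : X ∣ E D x - C x := by
      rw [X_dvd_iff, map_sub, ← coeff_zero_eq_constantCoeff_apply, coeff_E]
      simp
    obtain ⟨z, hz⟩ := h1
    refine ⟨z, hz, ?_⟩
    have h2 := congrArg (coeff (0 + 1)) hz
    rw [coeff_succ_X_mul, coeff_zero_eq_constantCoeff_apply, map_sub, coeff_E, coeff_C, if_neg (by simp), sub_zero] at h2
    rw [← h2]
    simp
  obtain ⟨z, hz, hz0⟩ := hz
  have h3 : E D c * C c * (E D x - C x) ^ n ∈ S R := by
    rw [sub_eq_add_neg, add_pow, Finset.mul_sum]
    refine sum_mem fun i _ => ?_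
    have h4 : E D c * C c * (E D x ^ i * (-C x) ^ (n - i) * (n.choose i : K⟦X⟧)) =
        E D (c * x ^ i) * C (c * x ^ (n - i)) * ((-1) ^ (n - i) * (n.choose i : K⟦X⟧)) := by
      rw [map_mul, map_pow, map_mul, map_pow, neg_pow]
      ring
    rw [h4]
    refine mul_mem (mul_mem (E_mem D R hR (h i)) (C_mem R (h _))) (mul_mem (pow_mem (neg_mem (one_mem _)) _) ?_)
    exact natCast_mem _ _
  have h5 := h3 n
  rw [hz, mul_pow, mul_left_comm, coeff_X_pow_mul', if_pos le_rfl, Nat.sub_self, coeff_zero_eq_constantCoeff_apply,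
    map_mul, map_mul, map_pow, hz0, constantCoeff_C, ← coeff_zero_eq_constantCoeff_apply, coeff_E] at h5
  simpa using h5

/-- Derivations of the total ring of fractions `K` of a Noetherian ring `A` preserving `A` preserve the integral
closure. -/
theorem isIntegral_of_derivation {A : Type*} [CommRing A] [IsNoetherianRing A] [Algebra ℚ A] [Algebra A K]
    [IsFractionRing A K] [IsScalarTower ℚ A K] (D : Derivation ℚ K K)
    (hD : ∀ a : A, D (algebraMap A K a) ∈ (algebraMap A K).range) (x : K) (hx : IsIntegral A x) :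
    IsIntegral A (D x) := by
  obtain ⟨r, hr, h⟩ := hx.isAlmostIntegral
  have hR := main D (IsScalarTower.toAlgHom ℚ A K).range (by
    rintro _ ⟨a, rfl⟩
    obtain ⟨b, hb⟩ := hD a
    exact ⟨b, hb⟩) x (algebraMap A K r) (fun n => by
      obtain ⟨b, hb⟩ := h n
      exact ⟨b, by rw [← Algebra.smul_def]; exact hb⟩)
  refine IsAlmostIntegral.isIntegral_of_nonZeroDivisors_le_comap ⟨r * r, mul_mem hr hr, fun n => ?_⟩ ?_
  · obtain ⟨b, hb⟩ := hR n
    refine ⟨b, ?_⟩
    rw [Algebra.smul_def, map_mul]
    exact hb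
  · intro a ha
    exact (IsLocalization.map_units K ⟨a, ha⟩).mem_nonZeroDivisors

/-- Derivations extend along formally étale algebras. -/
theorem exists_extend (k : Type*) {A B : Type*} [CommRing k] [CommRing A] [CommRing B] [Algebra k A] [Algebra k B]
    [Algebra A B] [IsScalarTower k A B] [Algebra.FormallyEtale A B] (D : Derivation k A A) :
    ∃ D' : Derivation k B B, ∀ s, D' (algebraMap A B s) = algebraMap A B (D s) := by
  let l : Ω[A⁄k] →ₗ[A] B := (Algebra.linearMap A B) ∘ₗ D.liftKaehlerDifferential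
  let l' : Ω[B⁄k] →ₗ[B] B := (l.liftBaseChange B) ∘ₗ
    (KaehlerDifferential.tensorKaehlerEquivOfFormallyEtale k A B).symm.toLinearMap
  refine ⟨l'.compDer (KaehlerDifferential.D k B), fun s => ?_⟩
  change l.liftBaseChange B ((KaehlerDifferential.tensorKaehlerEquivOfFormallyEtale k A B).symm
    (KaehlerDifferential.D k B (algebraMap A B s))) = _
  rw [KaehlerDifferential.tensorKaehlerEquivOfFormallyEtale_symm_D_algebraMap]
  simp [l]

end K571.Seiden
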