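import Mathlib.Algebra.Azumaya.Defs
import Mathlib.Algebra.Algebra.Subalgebra.Centralizer
import Mathlib.LinearAlgebra.Matrix.Basis
import Mathlib.RingTheory.Etale.Descent
import Mathlib.RingTheory.Etale.Pi
import Mathlib.RingTheory.Finiteness.ModuleFinitePresentation
import Mathlib.RingTheory.Flat.FaithfullyFlat.Algebra
import Mathlib.RingTheory.Spectrum.Prime.FreeLocus
import Groth.Agent.S5717

/-!
# Algebras which are faithfully flat locally a product of two matrix algebras

`A → A'` faithfully flat, `D` a finite projective `A`-algebra with `A' ⊗ D ≅ M_n(A') × M_n(A')`: the centre `Z` of `D`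
is finite étale of rank two over `A` and `D` is an Azumaya algebra over `Z`.
-/

set_option autoImplicit false

universe u v

open TensorProduct

namespace K571.AzDesc

section Center

variable {A : Type*} [CommRing A] {D : Type*} [Ring D] [Algebra A D]
  (A' : Type*) [CommRing A'] [Algebra A A']

/-- An element of a base change commuting with all elements of `D` is central. -/
theorem mem_center_of_commute (x : A' ⊗[A] D) (h : ∀ d : D, (1 ⊗ₜ d) * x = x * (1 ⊗ₜ d)) :
    x ∈ Subalgebra.center A' (A' ⊗[A] D) := by
  rw [Subalgebra.mem_center_iff]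
  intro y
  induction y using TensorProduct.induction_on with
  | zero => rw [zero_mul, mul_zero]
  | add y z hy hz => rw [add_mul, mul_add, hy, hz]
  | tmul a d =>
    have h1 : (a ⊗ₜ[A] d : A' ⊗[A] D) = a • (1 ⊗ₜ d) := by
      rw [TensorProduct.smul_tmul', smul_eq_mul, mul_one]
    rw [h1, smul_mul_assoc, mul_smul_comm, h d]

/-- The commutator map. -/
def comm {ι : Type*} (s : ι → D) : D →ₗ[A] (ι → D) where
  toFun x i := s i * x - x * s i
  map_add' x y := by
    funext i
    simp only [Pi.add_apply, mul_add, add_mul]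
    abel
  map_smul' a x := by
    funext i
    simp only [Pi.smul_apply, RingHom.id_apply, mul_smul_comm, smul_mul_assoc, smul_sub]

theorem exact_comm {ι : Type*} (s : ι → D) (hs : Submodule.span A (Set.range s) = ⊤) :
    Function.Exact (Subalgebra.center A D).val.toLinearMap (comm (A := A) s) := by
  intro x
  constructor
  · intro h
    refine ⟨⟨x, ?_⟩, rfl⟩
    rw [Subalgebra.mem_center_iff]
    intro y
    have hy : y ∈ Submodule.span A (Set.range s) := hs ▸ Submodule.mem_top
    induction hy using Submodule.span_induction with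
    | mem y hy =>
      obtain ⟨i, rfl⟩ := hy
      exact sub_eq_zero.1 (congrFun h i)
    | zero => rw [zero_mul, mul_zero]
    | add y z _ _ hy hz => rw [add_mul, mul_add, hy, hz]
    | smul a y _ hy => rw [smul_mul_assoc, mul_smul_comm, hy]
  · rintro ⟨x, rfl⟩
    funext i
    exact sub_eq_zero.2 (Subalgebra.mem_center_iff.1 x.2 (s i))

/-- The centre commutes with flat base change. -/
theorem range_baseChange_center [Module.Finite A D] [Module.Flat A A'] :
    Set.range (Algebra.TensorProduct.map (AlgHom.id A' A') (Subalgebra.center A D).val) =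
      (Subalgebra.center A' (A' ⊗[A] D) : Set (A' ⊗[A] D)) := by
  obtain ⟨n, s, hs⟩ := Module.Finite.exists_fin (R := A) (M := D)
  have hex := Module.Flat.lTensor_exact A' (exact_comm s hs)
  ext x
  constructor
  · rintro ⟨x, rfl⟩
    refine mem_center_of_commute A' _ fun d => ?_
    induction x using TensorProduct.induction_on with
    | zero => rw [map_zero, zero_mul, mul_zero]
    | add y z hy hz => rw [map_add, add_mul, mul_add, hy, hz]
    | tmul a z =>
      rw [Algebra.TensorProduct.map_tmul, Algebra.TensorProduct.tmul_mul_tmul,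
        Algebra.TensorProduct.tmul_mul_tmul, mul_one, one_mul]
      congr 1
      exact Subalgebra.mem_center_iff.1 z.2 d
  · intro hx
    have h1 : (comm (A := A) s).lTensor A' x = 0 := by
      let q : A' ⊗[A] (Fin n → D) →ₗ[A] (Fin n → A' ⊗[A] D) :=
        LinearMap.pi fun i => (LinearMap.proj i : (Fin n → D) →ₗ[A] D).lTensor A'
      have hq : Function.Injective q := by
        have : q = (TensorProduct.piRight A A A' (fun _ : Fin n => D)).toLinearMap := by
          refine TensorProduct.ext' fun a f => ?_
          funext i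
          simp [q]
        rw [this]
        exact (TensorProduct.piRight A A A' (fun _ : Fin n => D)).injective
      apply hq
      rw [map_zero]
      funext i
      have h2 : ∀ y : A' ⊗[A] D, q ((comm (A := A) s).lTensor A' y) i = (1 ⊗ₜ s i) * y - y * (1 ⊗ₜ s i) := by
        intro y
        induction y using TensorProduct.induction_on with
        | zero => simp
        | add y z hy hz =>
          rw [map_add, map_add, Pi.add_apply, hy, hz, mul_add, add_mul]
          abel
        | tmul a d =>
          rw [LinearMap.lTensor_tmul, Algebra.TensorProduct.tmul_mul_tmul, Algebra.TensorProduct.tmul_mul_tmul,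
            one_mul, mul_one, ← TensorProduct.tmul_sub]
          rfl
      rw [h2]
      exact sub_eq_zero.2 (Subalgebra.mem_center_iff.1 hx _)
    obtain ⟨y, hy⟩ := (hex x).1 h1
    exact ⟨y, hy⟩

end Center

section Matrix

variable {R : Type*} [CommRing R] {I : Type*} [Fintype I] [DecidableEq I] [Nonempty I]

/-- Pairs of scalar matrices. -/
def scal : (R × R) →ₐ[R] (Matrix I I R × Matrix I I R) where
  toFun x := (Matrix.scalar I x.1, Matrix.scalar I x.2)
  map_one' := by simp
  map_mul' x y := by simp
  map_zero' := by simp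
  map_add' x y := by simp
  commutes' r := rfl

omit [Nonempty I] in
theorem scal_apply (x : R × R) : scal (I := I) x = (Matrix.scalar I x.1, Matrix.scalar I x.2) := rfl

theorem scal_injective : Function.Injective (scal (R := R) (I := I)) := by
  intro x y h
  obtain ⟨i⟩ := ‹Nonempty I›
  rw [scal_apply, scal_apply, Prod.mk.injEq] at h
  refine Prod.ext ?_ ?_
  · have := congrFun (congrFun h.1 i) i
    simpa using this
  · have := congrFun (congrFun h.2 i) i
    simpa using this

omit [Nonempty I] in
theorem scal_range : Set.range (scal (R := R) (I := I)) =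
    (Subalgebra.center R (Matrix I I R × Matrix I I R) : Set (Matrix I I R × Matrix I I R)) := by
  ext x
  constructor
  · rintro ⟨r, rfl⟩
    rw [SetLike.mem_coe, Subalgebra.mem_center_iff]
    intro y
    rw [scal_apply]
    refine Prod.ext ?_ ?_
    · exact ((Matrix.scalar_commute r.1 (fun r' => mul_comm _ _) y.1).eq).symm
    · exact ((Matrix.scalar_commute r.2 (fun r' => mul_comm _ _) y.2).eq).symm
  · intro hx
    rw [SetLike.mem_coe, Subalgebra.mem_center_iff] at hx
    have h1 : x.1 ∈ Set.range (Matrix.scalar I) := Matrix.mem_range_scalar_iff_commute_single'.2 fun i j =>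
      congrArg Prod.fst (hx (Matrix.single i j 1, 0))
    have h2 : x.2 ∈ Set.range (Matrix.scalar I) := Matrix.mem_range_scalar_iff_commute_single'.2 fun i j =>
      congrArg Prod.snd (hx (0, Matrix.single i j 1))
    obtain ⟨a, ha⟩ := h1
    obtain ⟨b, hb⟩ := h2
    exact ⟨(a, b), Prod.ext ha hb⟩

/-- `M_I(R) × M_I(R) = M_I(R × R)`. -/
def pairEquiv : (Matrix I I R × Matrix I I R) ≃+* Matrix I I (R × R) where
  toFun x := Matrix.of fun i j => (x.1 i j, x.2 i j)
  invFun M := (Matrix.of fun i j => (M i j).1, Matrix.of fun i j => (M i j).2)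
  left_inv x := rfl
  right_inv M := rfl
  map_mul' x y := by
    ext i j
    · simp [Matrix.mul_apply, Prod.fst_sum]
    · simp [Matrix.mul_apply, Prod.snd_sum]
  map_add' x y := rfl

omit [Nonempty I] in
theorem pairEquiv_scal (x : R × R) : pairEquiv (scal (I := I) x) = Matrix.scalar I x := by
  ext i j
  · by_cases h : i = j <;> simp [pairEquiv, scal_apply, h, Matrix.diagonal]
  · by_cases h : i = j <;> simp [pairEquiv, scal_apply, h, Matrix.diagonal]

end Matrix

section Main

variable {A : Type u} [CommRing A] {D : Type (max u v)} [Ring D] [Algebra A D] [Module.Finite A D]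
  {A' : Type u} [CommRing A'] [Algebra A A'] [Module.FaithfullyFlat A A'] {I : Type} [Fintype I] [DecidableEq I]
  [Nonempty I] (e : (A' ⊗[A] D) ≃ₐ[A'] (Matrix I I A' × Matrix I I A'))

include e

/-- The centre after base change. -/
theorem exists_center_equiv : ∃ c : (A' ⊗[A] Subalgebra.center A D) ≃ₐ[A'] (A' × A'),
    ∀ x, scal (I := I) (c x) = e (Algebra.TensorProduct.map (AlgHom.id A' A') (Subalgebra.center A D).val x) := by
  let f := Algebra.TensorProduct.map (AlgHom.id A' A') (Subalgebra.center A D).val
  have hf : Function.Injective f :=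
    Module.Flat.lTensor_preserves_injective_linearMap (M := A') (Subalgebra.center A D).val.toLinearMap
      Subtype.val_injective
  have hr : Set.range (e.toAlgHom.comp f) = Set.range (scal (R := A') (I := I)) := by
    rw [scal_range, AlgHom.coe_comp, Set.range_comp, range_baseChange_center]
    ext x
    constructor
    · rintro ⟨y, hy, rfl⟩
      rw [SetLike.mem_coe, Subalgebra.mem_center_iff] at hy ⊢
      intro z
      obtain ⟨z, rfl⟩ := e.surjective z
      exact (map_mul e z y).symm.trans ((congrArg e (hy z)).trans (map_mul e y z))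
    · intro hx
      rw [SetLike.mem_coe, Subalgebra.mem_center_iff] at hx
      refine ⟨e.symm x, ?_, e.apply_symm_apply x⟩
      rw [SetLike.mem_coe, Subalgebra.mem_center_iff]
      intro z
      apply e.injective
      rw [map_mul, map_mul, e.apply_symm_apply]
      exact hx _
  have hinj : Function.Injective (e.toAlgHom.comp f) := e.injective.comp hf
  let c1 := AlgEquiv.ofInjective (e.toAlgHom.comp f) hinj
  let c2 := AlgEquiv.ofInjective (scal (R := A') (I := I)) scal_injective
  have hr' : (e.toAlgHom.comp f).range = (scal (R := A') (I := I)).range := SetLike.coe_injective hr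
  refine ⟨(c1.trans (Subalgebra.equivOfEq _ _ hr')).trans c2.symm, fun x => ?_⟩
  have h1 : ∀ y, scal (I := I) (c2.symm y) = y.1 := by
    intro y
    obtain ⟨y, rfl⟩ := c2.surjective y
    rw [c2.symm_apply_apply]
    rfl
  exact h1 _

theorem finite_center : Module.Finite A (Subalgebra.center A D) := by
  obtain ⟨c, -⟩ := exists_center_equiv e
  have : Module.Finite A' (A' ⊗[A] Subalgebra.center A D) := Module.Finite.equiv c.symm.toLinearEquiv
  exact Module.Finite.of_finite_tensorProduct_of_faithfullyFlat A'

theorem etale_center : Algebra.Etale A (Subalgebra.center A D) := by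
  obtain ⟨c, -⟩ := exists_center_equiv e
  have h : Algebra.Etale A' (A' × A') :=
    Algebra.Etale.of_equiv (AlgEquiv.ofRingEquiv (f := RingEquiv.piFinTwo fun _ : Fin 2 => A') fun r => rfl)
  have : Algebra.Etale A' (A' ⊗[A] Subalgebra.center A D) := Algebra.Etale.of_equiv c.symm
  exact Algebra.Etale.of_etale_tensorProduct_of_faithfullyFlat A'

theorem projective_center : Module.Projective A (Subalgebra.center A D) := by
  obtain ⟨c, -⟩ := exists_center_equiv e
  have h1 := finite_center e
  have h2 := etale_center e
  have h3 : Module.FinitePresentation A (Subalgebra.center A D) :=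
    Module.FinitePresentation.of_finite_of_finitePresentation _ _
  have h4 : Module.Flat A' (A' ⊗[A] Subalgebra.center A D) := Module.Flat.of_linearEquiv c.toLinearEquiv
  have h5 : Module.Flat A (Subalgebra.center A D) := Module.Flat.of_flat_tensorProduct _ _ A'
  exact Module.Flat.projective_of_finitePresentation

theorem rankAtStalk_center (p : PrimeSpectrum A) : Module.rankAtStalk (Subalgebra.center A D) p = 2 := by
  obtain ⟨c, -⟩ := exists_center_equiv e
  have h1 := finite_center e
  have h2 := projective_center e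
  obtain ⟨q, rfl⟩ := PrimeSpectrum.comap_surjective_of_faithfullyFlat (A := A) (B := A') p
  rw [← Module.rankAtStalk_baseChange, Module.rankAtStalk_eq_of_equiv c.toLinearEquiv, Module.rankAtStalk_prod]
  have := q.nontrivial
  simp

end Main

section Azumaya

/-- The algebra structure over the centre. -/
abbrev algCenter (A : Type*) [CommRing A] (D : Type*) [Ring D] [Algebra A D] :
    Algebra (Subalgebra.center A D) D :=
  (Subalgebra.center A D).val.toRingHom.toAlgebra' (fun c x => (Subalgebra.mem_center_iff.mp c.2 x).symm)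

/-- A module finitely presented over `A` is finitely presented over a finite `A`-algebra. -/
theorem finitePresentation_of_restrict (A Z D : Type*) [CommRing A] [CommRing Z] [Algebra A Z] [AddCommGroup D]
    [Module A D] [Module Z D] [IsScalarTower A Z D] [Module.Finite A Z] [Module.FinitePresentation A D] :
    Module.FinitePresentation Z D := by
  have h1 : Module.Finite Z D := Module.Finite.of_restrictScalars_finite A Z D
  obtain ⟨n, f, hf⟩ := Module.Finite.exists_fin' Z D
  have h2 : ((LinearMap.ker f).restrictScalars A).FG :=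
    Module.FinitePresentation.fg_ker (f.restrictScalars A) hf
  have h3 : (LinearMap.ker f).FG := by
    obtain ⟨s, hs⟩ := h2
    refine ⟨s, le_antisymm (Submodule.span_le.2 fun x hx => ?_) fun x hx => ?_⟩
    · have : x ∈ (LinearMap.ker f).restrictScalars A := hs ▸ Submodule.subset_span hx
      exact this
    · have h4 : x ∈ Submodule.span A (s : Set (Fin n → Z)) := hs ▸ hx
      exact Submodule.span_le_restrictScalars A Z _ h4
  exact Module.finitePresentation_of_free_of_surjective f hf h3

variable {A : Type u} [CommRing A] {D : Type (max u v)} [Ring D] [Algebra A D] [Module.Finite A D]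
  [Module.FinitePresentation A D]
  {A' : Type u} [CommRing A'] [Algebra A A'] [Module.FaithfullyFlat A A'] {n : ℕ} (hn : 1 ≤ n)
  (e : (A' ⊗[A] D) ≃ₐ[A'] (Matrix (Fin n) (Fin n) A' × Matrix (Fin n) (Fin n) A'))

include hn e

omit [Module.Finite A D] in
theorem isAzumaya_aux (Z : Type (max u v)) [CommRing Z] [Algebra A Z] [Algebra Z D] [IsScalarTower A Z D]
    [Module.Finite A Z] (c : (A' ⊗[A] Z) ≃ₐ[A'] (A' × A'))
    (hc : ∀ x, scal (I := Fin n) (c x) =
      e (Algebra.TensorProduct.map (AlgHom.id A' A') (IsScalarTower.toAlgHom A Z D) x)) : IsAzumaya Z D := by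
  have hfp := finitePresentation_of_restrict A Z D
  let κ : (A' × A') ≃+* (Z ⊗[A] A') := c.symm.toRingEquiv.trans (Algebra.TensorProduct.comm A A' Z).toRingEquiv
  let T : (A' ⊗[A] D) ≃+* Matrix (Fin n) (Fin n) (Z ⊗[A] A') :=
    e.toRingEquiv.trans (pairEquiv.trans κ.mapMatrix)
  have hT : ∀ x : A' ⊗[A] Z,
      T (Algebra.TensorProduct.map (AlgHom.id A' A') (IsScalarTower.toAlgHom A Z D) x) =
      Matrix.scalar (Fin n) (Algebra.TensorProduct.comm A A' Z x) := by
    intro x
    change κ.mapMatrix (pairEquiv (e _)) = _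
    rw [← hc, pairEquiv_scal]
    change (Matrix.diagonal fun _ => c x).map κ = _
    rw [Matrix.diagonal_map (map_zero κ)]
    change Matrix.diagonal (fun _ => (Algebra.TensorProduct.comm A A' Z) (c.symm (c x))) = _
    rw [c.symm_apply_apply]
    rfl
  let θ : D →ₐ[Z] Matrix (Fin n) (Fin n) (Z ⊗[A] A') :=
    { (T : (A' ⊗[A] D) →+* Matrix (Fin n) (Fin n) (Z ⊗[A] A')).comp
        (Algebra.TensorProduct.includeRight : D →ₐ[A] A' ⊗[A] D).toRingHom with
      commutes' := fun z => by
        have := hT (1 ⊗ₜ z)
        rw [Algebra.TensorProduct.map_tmul, map_one, Algebra.TensorProduct.comm_tmul] at this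
        exact this }
  have hθ : ∀ d, θ d = T (1 ⊗ₜ d) := fun d => rfl
  let ψ : (Z ⊗[A] A') ⊗[Z] D →ₐ[Z ⊗[A] A'] Matrix (Fin n) (Fin n) (Z ⊗[A] A') :=
    Algebra.TensorProduct.lift (Algebra.ofId (Z ⊗[A] A') _) θ fun x y => Algebra.commutes x (θ y)
  let κ' : A' ⊗[A] D →+ (Z ⊗[A] A') ⊗[Z] D := TensorProduct.liftAddHom
    { toFun := fun a =>
        { toFun := fun d => (1 ⊗ₜ[A] a : (Z ⊗[A] A')) ⊗ₜ[Z] d
          map_zero' := TensorProduct.tmul_zero _ _
          map_add' := fun x y => TensorProduct.tmul_add _ _ _ }
      map_zero' := by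
        ext d
        change (1 ⊗ₜ[A] (0 : A') : (Z ⊗[A] A')) ⊗ₜ[Z] d = 0
        rw [TensorProduct.tmul_zero, TensorProduct.zero_tmul]
      map_add' := fun a b => by
        ext d
        change (1 ⊗ₜ[A] (a + b) : (Z ⊗[A] A')) ⊗ₜ[Z] d =
          (1 ⊗ₜ[A] a : (Z ⊗[A] A')) ⊗ₜ[Z] d + (1 ⊗ₜ[A] b : (Z ⊗[A] A')) ⊗ₜ[Z] d
        rw [TensorProduct.tmul_add, TensorProduct.add_tmul] }
    (fun r a d => by
      change (1 ⊗ₜ[A] (r • a) : (Z ⊗[A] A')) ⊗ₜ[Z] d = (1 ⊗ₜ[A] a : (Z ⊗[A] A')) ⊗ₜ[Z] (r • d)
      have h1 : (1 ⊗ₜ[A] (r • a) : (Z ⊗[A] A')) = (algebraMap A Z r) • (1 ⊗ₜ[A] a : (Z ⊗[A] A')) := by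
        rw [TensorProduct.tmul_smul, algebraMap_smul]
      rw [h1, TensorProduct.smul_tmul, algebraMap_smul])
  have hκ' : ∀ a d, κ' (a ⊗ₜ d) = (1 ⊗ₜ[A] a : (Z ⊗[A] A')) ⊗ₜ[Z] d := fun a d => rfl
  have hsurj : Function.Surjective κ' := by
    intro x
    induction x using TensorProduct.induction_on with
    | zero => exact ⟨0, map_zero _⟩
    | add x y hx hy =>
      obtain ⟨x, rfl⟩ := hx
      obtain ⟨y, rfl⟩ := hy
      exact ⟨x + y, map_add _ _ _⟩
    | tmul w d =>
      induction w using TensorProduct.induction_on with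
      | zero => exact ⟨0, by rw [map_zero, TensorProduct.zero_tmul]⟩
      | add x y hx hy =>
        obtain ⟨x', hx⟩ := hx
        obtain ⟨y', hy⟩ := hy
        exact ⟨x' + y', by rw [map_add, hx, hy, TensorProduct.add_tmul]⟩
      | tmul z a =>
        refine ⟨a ⊗ₜ (z • d), ?_⟩
        rw [hκ', ← TensorProduct.smul_tmul, TensorProduct.smul_tmul', smul_eq_mul, mul_one]
  have hcomp : ∀ x, ψ (κ' x) = T x := by
    intro x
    induction x using TensorProduct.induction_on with
    | zero => rw [map_zero, map_zero, map_zero]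
    | add x y hx hy => rw [map_add, map_add, map_add, hx, hy]
    | tmul a d =>
      rw [hκ', Algebra.TensorProduct.lift_tmul, hθ]
      have h1 : (a ⊗ₜ[A] d : A' ⊗[A] D) = (Algebra.TensorProduct.map (AlgHom.id A' A')
          (IsScalarTower.toAlgHom A Z D) (a ⊗ₜ 1)) * (1 ⊗ₜ d) := by
        rw [Algebra.TensorProduct.map_tmul, map_one, Algebra.TensorProduct.tmul_mul_tmul, one_mul, AlgHom.id_apply,
          mul_one]
      rw [h1, map_mul, hT, Algebra.TensorProduct.comm_tmul]
      rfl
  have hψ : Function.Bijective ψ := by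
    constructor
    · intro x y h
      obtain ⟨x, rfl⟩ := hsurj x
      obtain ⟨y, rfl⟩ := hsurj y
      rw [hcomp, hcomp] at h
      rw [T.injective h]
    · intro y
      obtain ⟨x, rfl⟩ := T.surjective y
      exact ⟨κ' x, hcomp x⟩
  exact Groth.Agent.S5717.result Z D (Z ⊗[A] A') n hn (AlgEquiv.ofBijective ψ hψ)

theorem isAzumaya_center : @IsAzumaya (Subalgebra.center A D) D _ _ (algCenter A D) := by
  let : Algebra (Subalgebra.center A D) D := algCenter A D
  have hst : @IsScalarTower A (Subalgebra.center A D) D _ (algCenter A D).toSMul _ :=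
    IsScalarTower.of_algebraMap_eq fun r => rfl
  have : Nonempty (Fin n) := ⟨⟨0, hn⟩⟩
  obtain ⟨c, hc⟩ := exists_center_equiv e
  have hfin := finite_center e
  exact isAzumaya_aux hn e (Subalgebra.center A D) c hc

end Azumaya

end K571.AzDesc
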